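import Mathlib

/-!
Ax's theorem on the divisibility of the number of zeros of a polynomial over a finite field.
-/

namespace GrothLib.AxKatz

open Finset

variable (p : ℕ)

/-- the `l`-th base-`p` digit -/
def dig (k l : ℕ) : ℕ := k / p ^ l % p

/-- sum of the first `L` digits -/
def ds (L k : ℕ) : ℕ := ∑ l ∈ range L, dig p k l

/-- digits folded modulo `f` and rotated by `t` -/
def fold (f L t k : ℕ) : ℕ := ∑ l ∈ range L, dig p k l * p ^ ((l + t) % f)

theorem div_eq_dig_add (k l : ℕ) : k / p ^ l = dig p k l + p * (k / p ^ (l + 1)) := by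
  rw [dig, pow_succ, ← Nat.div_div_eq_div_mul]
  exact (Nat.mod_add_div _ _).symm

theorem eq_sum_dig (k : ℕ) : ∀ L : ℕ, k = ∑ l ∈ range L, dig p k l * p ^ l + p ^ L * (k / p ^ L)
  | 0 => by simp
  | L + 1 => by
    conv_lhs => rw [eq_sum_dig k L, div_eq_dig_add p k L]
    rw [sum_range_succ]; ring

theorem self_eq_ds_add (hp : 1 ≤ p) (k : ℕ) : ∀ L : ℕ,
    k + (k / p ^ L) * 0 = ds p L k + (p - 1) * (∑ i ∈ Ico 1 (L + 1), k / p ^ i) + k / p ^ L := by
  intro L
  induction L with
  | zero => simp [ds]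
  | succ L ih =>
    simp only [mul_zero, add_zero] at ih ⊢
    rw [sum_Ico_succ_top (by omega : 1 ≤ L + 1), mul_add, ds, sum_range_succ, ← ds]
    have h := div_eq_dig_add p k L
    have h2 : (p - 1) * (k / p ^ (L + 1)) + k / p ^ (L + 1) = p * (k / p ^ (L + 1)) := by
      rw [← Nat.succ_mul]; congr 1; omega
    omega

theorem legendre [hp : Fact p.Prime] {L n : ℕ} (hn : n < p ^ L) :
    (p - 1) * padicValNat p n.factorial + ds p L n = n := by
  have hp1 := hp.out.one_lt
  have h := self_eq_ds_add p hp1.le n L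
  rw [Nat.div_eq_of_lt hn, padicValNat_factorial (b := L + 1) ?_] at *
  · omega
  · rcases Nat.eq_zero_or_pos n with rfl | h0
    · simp
    · exact (Nat.log_lt_of_lt_pow h0.ne' hn).trans (Nat.lt_succ_self L)

theorem padicValNat_multinomial [hp : Fact p.Prime] {ι : Type*} (s : Finset ι) (k : ι → ℕ) {L : ℕ}
    (hK : ∑ i ∈ s, k i < p ^ L) :
    (p - 1) * padicValNat p (Nat.multinomial s k) + ds p L (∑ i ∈ s, k i) = ∑ i ∈ s, ds p L (k i) := by
  classical
  have hspec := congrArg (padicValNat p) (Nat.multinomial_spec s k)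
  have hne : ∀ i ∈ s, (k i).factorial ≠ 0 := fun i _ => Nat.factorial_ne_zero _
  rw [padicValNat.mul (prod_ne_zero_iff.mpr hne) (Nat.pos_iff_ne_zero.mp (Nat.multinomial_pos s k))] at hspec
  have hprod : padicValNat p (∏ i ∈ s, (k i).factorial) = ∑ i ∈ s, padicValNat p (k i).factorial := by
    clear hK hspec hne
    induction s using Finset.induction_on with
    | empty => simp
    | insert a s ha ih =>
      rw [prod_insert ha, sum_insert ha, padicValNat.mul (Nat.factorial_ne_zero _)
        (prod_ne_zero_iff.mpr fun i _ => Nat.factorial_ne_zero _), ih]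
  rw [hprod] at hspec
  have hk : ∀ i ∈ s, (p - 1) * padicValNat p (k i).factorial + ds p L (k i) = k i := fun i hi =>
    legendre p ((single_le_sum (fun i _ => Nat.zero_le (k i)) hi).trans_lt hK)
  have h1 := sum_congr rfl hk
  rw [sum_add_distrib, ← mul_sum] at h1
  have h2 := legendre p hK
  rw [← hspec, mul_add] at h2
  linarith [show ∑ i ∈ s, k i = s.sum k from rfl]

theorem ds_le [hp : Fact p.Prime] (f m K : ℕ) (hK : p ^ (f * m) ∣ K) :
    ds p (f * (m + 1)) K ≤ f * (p - 1) := by
  rw [ds, mul_add, mul_one, sum_range_add]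
  have h0 : ∑ l ∈ range (f * m), dig p K l = 0 := by
    refine sum_eq_zero fun l hl => ?_
    rw [mem_range] at hl
    obtain ⟨c, rfl⟩ := hK
    obtain ⟨e, he⟩ := Nat.exists_eq_add_of_lt hl
    have h : p ^ (f * m) * c = p ^ l * (p * (p ^ e * c)) := by rw [he]; ring
    rw [dig, h, Nat.mul_div_cancel_left _ (pow_pos hp.out.pos _), Nat.mul_mod_right]
  rw [h0, zero_add]
  calc ∑ l ∈ range f, dig p K (f * m + l) ≤ ∑ _l ∈ range f, (p - 1) :=
        sum_le_sum fun l _ => Nat.le_sub_one_of_lt (Nat.mod_lt _ hp.out.pos)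
    _ = f * (p - 1) := by simp

theorem pow_modEq_mod (hp : 1 ≤ p) (f l : ℕ) : p ^ l ≡ p ^ (l % f) [MOD p ^ f - 1] := by
  have h1 : p ^ f ≡ 1 [MOD p ^ f - 1] :=
    ((Nat.modEq_iff_dvd' (Nat.one_le_pow _ _ hp)).mpr dvd_rfl).symm
  conv_lhs => rw [← Nat.div_add_mod l f, pow_add, pow_mul]
  simpa using (h1.pow (l / f)).mul_right (p ^ (l % f))

theorem fold_modEq (hp : 1 ≤ p) (f L t k : ℕ) (hk : k < p ^ L) :
    fold p f L t k ≡ p ^ t * k [MOD p ^ f - 1] := by
  conv_rhs => rw [eq_sum_dig p k L, Nat.div_eq_of_lt hk, mul_zero, add_zero, mul_sum]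
  refine Nat.ModEq.sum fun l _ => ?_
  refine Nat.ModEq.trans ((pow_modEq_mod p hp f (l + t)).mul_left (dig p k l)).symm ?_
  rw [pow_add]
  rw [show p ^ t * (dig p k l * p ^ l) = dig p k l * (p ^ l * p ^ t) by ring]

theorem fold_ne_zero (hp : 1 ≤ p) (f L t k : ℕ) (hk : k < p ^ L) (h0 : k ≠ 0) : fold p f L t k ≠ 0 := by
  intro h
  rw [fold, sum_eq_zero_iff] at h
  refine h0 ?_
  rw [eq_sum_dig p k L, Nat.div_eq_of_lt hk, mul_zero, add_zero]
  refine sum_eq_zero fun l hl => ?_
  rcases mul_eq_zero.mp (h l hl) with hd | hd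
  · rw [hd, zero_mul]
  · exact absurd hd (pow_ne_zero _ (by omega))

theorem sum_fold (f L k : ℕ) :
    ∑ t ∈ range f, fold p f L t k = ds p L k * ∑ t ∈ range f, p ^ t := by
  simp only [fold, ds, sum_mul]
  rw [sum_comm]
  refine sum_congr rfl fun l _ => ?_
  rw [← mul_sum]
  congr 1
  refine sum_nbij' (fun t => (l + t) % f) (fun u => (f - l % f + u) % f) ?_ ?_ ?_ ?_ (fun t _ => rfl)
  · intro t ht
    rw [mem_range] at ht ⊢
    exact Nat.mod_lt _ (by omega)
  · intro u hu
    rw [mem_range] at hu ⊢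
    exact Nat.mod_lt _ (by omega)
  · intro t ht
    rw [mem_range] at ht
    have hl := Nat.mod_lt l (show f > 0 by omega)
    rw [Nat.add_mod_mod, show f - l % f + (l + t) = t + f * (l / f + 1) by
      have := Nat.div_add_mod l f; rw [mul_add, mul_one]; omega, Nat.add_mul_mod_self_left,
      Nat.mod_eq_of_lt ht]
  · intro u hu
    rw [mem_range] at hu
    have hl := Nat.mod_lt l (show f > 0 by omega)
    rw [Nat.add_mod_mod, show l + (f - l % f + u) = u + f * (l / f + 1) by
      have := Nat.div_add_mod l f; rw [mul_add, mul_one]; omega, Nat.add_mul_mod_self_left,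
      Nat.mod_eq_of_lt hu]

theorem geom (hp : 1 ≤ p) : ∀ f : ℕ, (p - 1) * ∑ t ∈ range f, p ^ t + 1 = p ^ f
  | 0 => by simp
  | f + 1 => by
    rw [sum_range_succ, mul_add, add_right_comm, geom hp f, pow_succ, mul_comm (p - 1)]
    conv_rhs => rw [show p = 1 + (p - 1) by omega, mul_add, mul_one]
    rw [show 1 + (p - 1) = p by omega]

/-- the combinatorial heart -/
theorem key_bound [hp : Fact p.Prime] {σ ι : Type*} [Fintype σ] (s : Finset ι) (M : ι → σ → ℕ)
    (k : ι → ℕ) (f m d j : ℕ) (hf : 0 < f) (hdeg : ∀ a ∈ s, ∑ i, M a i ≤ d)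
    (hj : j * d < Fintype.card σ) (hd : 0 < d)
    (hK : ∑ a ∈ s, k a = (p ^ f - 1) * p ^ (f * m))
    (hdiv : ∀ i, (p ^ f - 1) ∣ ∑ a ∈ s, k a * M a i) :
    f * j ≤ padicValNat p (Nat.multinomial s k) +
      f * (univ.filter fun i => ∑ a ∈ s, k a * M a i = 0).card := by
  classical
  have hp1 := hp.out.one_lt
  set L := f * (m + 1)
  set z := (univ.filter fun i => ∑ a ∈ s, k a * M a i = 0).card
  have hKlt : ∑ a ∈ s, k a < p ^ L := by
    rw [hK, show p ^ L = p ^ f * p ^ (f * m) by rw [← pow_add]; congr 1; simp [L]; ring]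
    exact Nat.mul_lt_mul_of_pos_right (by have := Nat.one_le_pow f p hp1.le; omega) (pow_pos hp.out.pos _)
  have hka : ∀ a ∈ s, k a < p ^ L := fun a ha =>
    (single_le_sum (fun i _ => Nat.zero_le (k i)) ha).trans_lt hKlt
  have hS : ∀ t, (j + 1 - z) * (p ^ f - 1) ≤ ∑ a ∈ s, fold p f L t (k a) := by
    intro t
    have hmod : ∑ a ∈ s, fold p f L t (k a) ≡ p ^ t * ∑ a ∈ s, k a [MOD p ^ f - 1] := by
      rw [mul_sum]; exact Nat.ModEq.sum fun a ha => fold_modEq p hp1.le f L t _ (hka a ha)
    obtain ⟨c, hc⟩ : (p ^ f - 1) ∣ ∑ a ∈ s, fold p f L t (k a) :=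
      (hmod.dvd_iff dvd_rfl).mpr (Dvd.dvd.mul_left (hK ▸ Dvd.intro _ rfl) _)
    have hE : ∀ i, ∑ a ∈ s, k a * M a i ≠ 0 → p ^ f - 1 ≤ ∑ a ∈ s, fold p f L t (k a) * M a i := by
      intro i hi
      have hm : ∑ a ∈ s, fold p f L t (k a) * M a i ≡ p ^ t * ∑ a ∈ s, k a * M a i [MOD p ^ f - 1] := by
        rw [mul_sum]
        refine Nat.ModEq.sum fun a ha => ?_
        rw [← mul_assoc]
        exact (fold_modEq p hp1.le f L t _ (hka a ha)).mul_right _
      refine Nat.le_of_dvd (Nat.pos_of_ne_zero ?_) ((hm.dvd_iff dvd_rfl).mpr (Dvd.dvd.mul_left (hdiv i) _))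
      obtain ⟨a, ha, hne⟩ := exists_ne_zero_of_sum_ne_zero hi
      intro h0
      obtain ⟨hk0, hM0⟩ := mul_ne_zero_iff.mp hne
      exact mul_ne_zero (fold_ne_zero p hp1.le f L t _ (hka a ha) hk0) hM0 (sum_eq_zero_iff.mp h0 a ha)
    have hcount : (Fintype.card σ - z) * (p ^ f - 1) ≤ d * ((p ^ f - 1) * c) := by
      rw [← hc, mul_sum]
      calc (Fintype.card σ - z) * (p ^ f - 1)
          = ∑ _i ∈ univ.filter (fun i => ¬ ∑ a ∈ s, k a * M a i = 0), (p ^ f - 1) := by
            rw [sum_const, smul_eq_mul]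
            congr 1
            have := card_filter_add_card_filter_not (s := (univ : Finset σ))
              (fun i => ∑ a ∈ s, k a * M a i = 0)
            rw [card_univ] at this
            simp only [z]
            omega
        _ ≤ ∑ i ∈ univ.filter (fun i => ¬ ∑ a ∈ s, k a * M a i = 0), ∑ a ∈ s, fold p f L t (k a) * M a i :=
            sum_le_sum fun i hi => hE i (mem_filter.mp hi).2
        _ ≤ ∑ i, ∑ a ∈ s, fold p f L t (k a) * M a i :=
            sum_le_sum_of_subset (filter_subset _ _)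
        _ = ∑ a ∈ s, fold p f L t (k a) * ∑ i, M a i := by rw [sum_comm]; simp [mul_sum]
        _ ≤ ∑ a ∈ s, d * fold p f L t (k a) := sum_le_sum fun a ha => by
            rw [mul_comm d]; exact Nat.mul_le_mul_left _ (hdeg a ha)
    rw [hc, mul_comm (p ^ f - 1) c]
    refine Nat.mul_le_mul_right _ ?_
    have hq : 0 < p ^ f - 1 := Nat.sub_pos_of_lt (Nat.one_lt_pow hf.ne' hp1)
    have hdc : Fintype.card σ - z ≤ d * c := by
      refine Nat.le_of_mul_le_mul_right ?_ hq
      rw [mul_assoc, mul_comm c]; exact hcount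
    by_contra hlt
    rw [not_le] at hlt
    obtain ⟨e, he⟩ : ∃ e, j = c + z + e := Nat.exists_eq_add_of_le (by omega)
    have : z ≤ z * d := Nat.le_mul_of_pos_right _ hd
    rw [he, add_mul, add_mul] at hj
    rw [mul_comm d c] at hdc
    omega
  have hsum := sum_le_sum (s := range f) fun t _ => hS t
  rw [sum_const, card_range, smul_eq_mul, sum_comm] at hsum
  simp only [sum_fold, ← sum_mul] at hsum
  set G := ∑ t ∈ range f, p ^ t with hG
  have hGq : p ^ f - 1 = (p - 1) * G := by have := geom p hp1.le f; rw [← hG] at this; omega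
  rw [hGq, ← mul_assoc, ← mul_assoc] at hsum
  have hG0 : 0 < G := sum_pos (fun t _ => pow_pos hp.out.pos t) ⟨0, mem_range.mpr hf⟩
  have h1 := Nat.le_of_mul_le_mul_right hsum hG0
  have h2 := padicValNat_multinomial p s k hKlt
  have h3 : ds p L (∑ a ∈ s, k a) ≤ f * (p - 1) := by
    rw [hK]; exact ds_le p f m _ (dvd_mul_left _ _)
  set v := padicValNat p (Nat.multinomial s k)
  have h4 : f * (j + 1 - z) * (p - 1) ≤ (v + f) * (p - 1) := by
    rw [add_mul, mul_comm v]; omega
  have h5 := Nat.le_of_mul_le_mul_right h4 (by omega)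
  rcases le_or_gt j z with hjz | hjz
  · calc f * j ≤ f * z := Nat.mul_le_mul_left _ hjz
      _ ≤ _ := Nat.le_add_left _ _
  · obtain ⟨e, rfl⟩ := Nat.exists_eq_add_of_lt hjz
    rw [show z + e + 1 + 1 - z = e + 1 + 1 by omega] at h5
    simp only [mul_add, mul_one] at h5 ⊢
    omega

variable {k : Type*} [Field k] [Fintype k]

theorem ax (N d j : ℕ) (hd : 0 < d) (F : MvPolynomial (Fin N) k) (hF : F.totalDegree ≤ d) (hj : j * d < N)
    [DecidableEq k] :
    Fintype.card k ^ j ∣ Fintype.card {x : Fin N → k // MvPolynomial.eval x F = 0} := by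
  classical
  obtain ⟨p, hp⟩ := CharP.exists k
  obtain ⟨f, hpr, hq⟩ := FiniteField.card k p
  have : Fact p.Prime := ⟨hpr⟩
  set q := Fintype.card k with hqdef
  have hq1 : 1 < q := Fintype.one_lt_card
  have hf : 0 < (f : ℕ) := f.pos
  let τ : k →* WittVector p k := WittVector.teichmuller p
  have hτ0 : ∀ a, WittVector.constantCoeff (τ a) = a := fun a => WittVector.teichmuller_coeff_zero p a
  have hτinj : Function.Injective τ := fun a b h => by simpa [hτ0] using congrArg WittVector.constantCoeff h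
  have hτz : τ 0 = 0 := WittVector.teichmuller_zero p
  set m := (f : ℕ) * j + 1 with hm
  set K := (q - 1) * q ^ m with hKdef
  set J := (f : ℕ) * j with hJ
  let Ft : (Fin N → k) → WittVector p k := fun x =>
    ∑ e ∈ F.support, τ (F.coeff e) * ∏ i, τ (x i) ^ e i
  have hFt : ∀ x, WittVector.constantCoeff (Ft x) = MvPolynomial.eval x F := by
    intro x
    simp only [Ft, map_sum, map_mul, map_prod, map_pow, hτ0]
    rw [MvPolynomial.eval_eq']
  -- (1) the sum of powers counts nonzero values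
  have hJK : J ≤ K := by
    calc J ≤ m := by omega
      _ ≤ q ^ m := (Nat.lt_pow_self hq1).le
      _ ≤ K := Nat.le_mul_of_pos_left _ (by omega)
  have hterm : ∀ x, (p : WittVector p k) ^ J ∣
      Ft x ^ K - (if MvPolynomial.eval x F = 0 then 0 else 1) := by
    intro x
    split_ifs with hx
    · rw [sub_zero]
      have : (p : WittVector p k) ∣ Ft x := by
        rw [← Ideal.mem_span_singleton, ← WittVector.ker_constantCoeff, RingHom.mem_ker, hFt, hx]
      exact (pow_dvd_pow _ hJK).trans (pow_dvd_pow_of_dvd this K)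
    · have h1 : (p : WittVector p k) ∣ Ft x ^ (q - 1) - 1 := by
        rw [← Ideal.mem_span_singleton, ← WittVector.ker_constantCoeff, RingHom.mem_ker, map_sub, map_pow,
          map_one, hFt, FiniteField.pow_card_sub_one_eq_one _ hx, sub_self]
      have h2 := dvd_sub_pow_of_dvd_sub h1 ((f : ℕ) * m)
      rw [one_pow, ← pow_mul] at h2
      rw [pow_mul p (f : ℕ) m, ← hq, ← hKdef] at h2
      refine (pow_dvd_pow _ ?_).trans h2
      have : j ≤ m := by
        have := Nat.le_mul_of_pos_left j hf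
        omega
      have := Nat.mul_le_mul_left (f : ℕ) this
      omega
  -- (2) the sum of powers is divisible
  have hpows : ∀ e : ℕ, e = 0 ∧ ∑ a : k, τ a ^ e = (q : WittVector p k) ∨
      e ≠ 0 ∧ ((q - 1) ∣ e ∨ ∑ a : k, τ a ^ e = 0) := by
    intro e
    rcases eq_or_ne e 0 with rfl | he
    · exact Or.inl ⟨rfl, by simp [hqdef]⟩
    refine Or.inr ⟨he, or_iff_not_imp_left.mpr fun hnd => ?_⟩
    obtain ⟨g, hg⟩ := IsCyclic.exists_generator (α := kˣ)
    have hge : (g : k) ^ e ≠ 1 := by
      intro h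
      refine hnd ?_
      have hord := orderOf_eq_card_of_forall_mem_zpowers hg
      rw [Nat.card_eq_fintype_card, Fintype.card_units] at hord
      rw [hqdef, ← hord]
      exact orderOf_dvd_of_pow_eq_one (Units.ext (by simpa using h))
    have hs : τ (g : k) ^ e * ∑ a : k, τ a ^ e = ∑ a : k, τ a ^ e := by
      rw [mul_sum]
      exact Fintype.sum_equiv (Equiv.mulLeft₀ (g : k) g.ne_zero) _ _ fun a => by simp [mul_pow]
    have hne : τ (g : k) ^ e - 1 ≠ 0 := by
      rw [sub_ne_zero, ← map_pow, ← map_one τ]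
      exact fun h => hge (hτinj h)
    refine (mul_eq_zero.mp ?_).resolve_left hne
    rw [sub_mul, one_mul, hs, sub_self]
  have hsum : (p : WittVector p k) ^ J ∣ ∑ x, Ft x ^ K := by
    simp only [Ft, sum_pow_eq_sum_piAntidiag]
    rw [sum_comm]
    refine dvd_sum fun c hc => ?_
    rw [mem_piAntidiag] at hc
    have hfac : ∀ x : Fin N → k, (Nat.multinomial F.support c : WittVector p k) *
        ∏ e ∈ F.support, (τ (F.coeff e) * ∏ i, τ (x i) ^ e i) ^ c e =
        ((Nat.multinomial F.support c : WittVector p k) * ∏ e ∈ F.support, τ (F.coeff e) ^ c e) *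
          ∏ i, τ (x i) ^ (∑ e ∈ F.support, c e * e i) := by
      intro x
      simp only [mul_pow, prod_mul_distrib, ← prod_pow, ← pow_mul, mul_assoc]
      congr 2
      rw [prod_comm]
      refine prod_congr rfl fun i _ => ?_
      rw [prod_pow_eq_pow_sum]
      congr 1
      exact sum_congr rfl fun e _ => mul_comm _ _
    simp only [hfac, ← mul_sum]
    rw [← Fintype.prod_sum fun i (a : k) => τ a ^ (∑ e ∈ F.support, c e * e i)]
    set E : Fin N → ℕ := fun i => ∑ e ∈ F.support, c e * e i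
    by_cases hall : ∀ i, (q - 1) ∣ E i
    · have hb := key_bound p F.support (fun e i => e i) c f m d j hf
        (fun e he => by
          have := MvPolynomial.le_totalDegree he
          rw [Finsupp.sum_fintype _ _ (fun _ => rfl)] at this
          exact this.trans hF)
        (by simpa using hj) hd (by rw [hc.1, hKdef, hq, ← pow_mul]) (by rw [← hq]; exact hall)
      refine (pow_dvd_pow _ hb).trans ?_
      rw [pow_add]
      refine mul_dvd_mul (Dvd.dvd.mul_right ?_ _) ?_
      · rw [← Nat.cast_pow]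
        exact Nat.cast_dvd_cast pow_padicValNat_dvd
      · have hz : ∏ i ∈ univ.filter (fun i => E i = 0), ∑ a : k, τ a ^ E i =
            ((p : WittVector p k) ^ (f : ℕ)) ^ (univ.filter fun i => E i = 0).card := by
          rw [← prod_const]
          refine prod_congr rfl fun i hi => ?_
          rw [(mem_filter.mp hi).2]
          simp only [pow_zero, sum_const, card_univ, nsmul_eq_mul, mul_one]
          rw [← hqdef, hq, Nat.cast_pow]
        rw [pow_mul, ← hz]
        exact prod_dvd_prod_of_subset _ _ _ (filter_subset _ _)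
    · push Not at hall
      obtain ⟨i, hi⟩ := hall
      have h0 : ∑ a : k, τ a ^ E i = 0 := by
        rcases hpows (E i) with ⟨h, -⟩ | ⟨-, h | h⟩
        · exact absurd (h ▸ dvd_zero _) hi
        · exact absurd h hi
        · exact h
      rw [prod_eq_zero (mem_univ i) (by simpa [E] using h0), mul_zero]
      exact dvd_zero _
  -- conclusion
  set Z := Fintype.card {x : Fin N → k // MvPolynomial.eval x F = 0} with hZ
  have hind : ∑ x : Fin N → k, (if MvPolynomial.eval x F = 0 then (0 : WittVector p k) else 1) =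
      ((q ^ N - Z : ℕ) : WittVector p k) := by
    rw [sum_ite, sum_const_zero, zero_add, sum_const, nsmul_one]
    congr 1
    rw [hZ, Fintype.card_subtype, filter_not, card_sdiff_of_subset (filter_subset _ _), card_univ,
      Fintype.card_fun, Fintype.card_fin]
  have hdiff : (p : WittVector p k) ^ J ∣ ((q ^ N - Z : ℕ) : WittVector p k) := by
    rw [← hind]
    have h := dvd_sub hsum (dvd_sum (s := univ) fun x _ => hterm x)
    rw [sum_sub_distrib, sub_sub_cancel] at h
    exact h
  have hjN : j ≤ N := ((Nat.le_mul_of_pos_right j hd).trans_lt hj).le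
  have hZle : Z ≤ q ^ N := by
    rw [hZ]
    refine (Fintype.card_subtype_le _).trans_eq ?_
    simp [hqdef]
  have hnat : p ^ J ∣ q ^ N - Z := by
    rcases Nat.eq_zero_or_pos (q ^ N - Z) with h0 | h0
    · rw [h0]; exact dvd_zero _
    obtain ⟨a, u, hu, hau⟩ := Nat.exists_eq_pow_mul_and_not_dvd h0.ne' p hpr.ne_one
    rw [hau] at hdiff ⊢
    refine Dvd.dvd.mul_right (pow_dvd_pow p ?_) u
    have hunit : IsUnit (u : WittVector p k) := by
      refine WittVector.isUnit_of_coeff_zero_ne_zero _ ?_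
      rw [← WittVector.constantCoeff_apply, map_natCast, Ne, CharP.cast_eq_zero_iff k p]
      exact hu
    rw [Nat.cast_mul, Nat.cast_pow, hunit.dvd_mul_right] at hdiff
    exact (pow_dvd_pow_iff (WittVector.irreducible p).ne_zero (WittVector.irreducible p).not_isUnit).mp hdiff
  have hqN : p ^ J ∣ q ^ N := by rw [hq, ← pow_mul]; exact pow_dvd_pow _ (Nat.mul_le_mul_left _ hjN)
  rw [hq, ← pow_mul]
  have := Nat.dvd_sub hqN hnat
  rwa [Nat.sub_sub_self hZle] at this

end GrothLib.AxKatz
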